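import Groth.Agent.H26.BlowChart
import Groth.Prelude.Def_CAlgX
import Mathlib.Algebra.Category.Ring.Constructions

/-!
# Charts of blow-ups in `H₁`-regular ideals

The chart `A[I/aⱼ]` of the blow-up in the ideal of an `H₁`-regular sequence `a` is cut out in the polynomial ring by
the linear relations, and `aⱼ` stays regular after any base change keeping the sequence `H₁`-regular.
-/

set_option autoImplicit false
set_option linter.style.haveILetI false
universe u

open CategoryTheory MvPolynomial

namespace Groth.Agent.Lib.KoszulBlow85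

variable {A : Type u} [CommRing A] {c : ℕ} (a : Fin c → A) (j : Fin c)

/-- The variable attached to `i`, the `j`-th one being `1`. -/
noncomputable def var (i : Fin c) : MvPolynomial {i : Fin c // i ≠ j} A :=
  if h : i = j then 1 else X ⟨i, h⟩

theorem var_self : var (A := A) j j = 1 := dif_pos rfl

/-- The linear relations of the chart. -/
noncomputable def rel : Ideal (MvPolynomial {i : Fin c // i ≠ j} A) :=
  Ideal.span (Set.range fun i => C (a j) * var j i - C (a i))

theorem rel_mem (i : Fin c) : C (a j) * var j i - C (a i) ∈ rel a j :=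
  Ideal.subset_span ⟨i, rfl⟩

theorem mem_span_trivial (ha : CAlgX.IsH1Regular a) {σ : Type*}
    (v : Fin c → MvPolynomial σ A) (hv : ∑ i, v i * C (a i) = 0) :
    v ∈ Submodule.span (MvPolynomial σ A) {w : Fin c → MvPolynomial σ A |
      ∃ i k : Fin c, w = Pi.single i (C (a k)) - Pi.single k (C (a i))} := by
  classical
  set M := Submodule.span (MvPolynomial σ A) {w : Fin c → MvPolynomial σ A |
      ∃ i k : Fin c, w = Pi.single i (C (a k)) - Pi.single k (C (a i))}
  have hsum : v = ∑ d ∈ Finset.univ.biUnion fun i => (v i).support,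
      fun i => monomial d ((v i).coeff d) := by
    funext i
    rw [Finset.sum_apply]
    conv_lhs => rw [(v i).as_sum]
    refine Finset.sum_subset (fun d hd => Finset.mem_biUnion.mpr ⟨i, Finset.mem_univ i, hd⟩)
      fun d _ hd => ?_
    rw [notMem_support_iff.mp hd, map_zero]
  rw [hsum]
  refine Submodule.sum_mem _ fun d _ => ?_
  have hd : ∑ i, (v i).coeff d * a i = 0 := by
    have h := congrArg (coeff d) hv
    simp only [coeff_sum, coeff_zero] at h
    convert h using 2 with i
    rw [mul_comm (v i), coeff_C_mul, mul_comm]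
  refine Submodule.span_induction (p := fun w _ => (fun i => monomial d (w i)) ∈ M) ?_ ?_ ?_ ?_
    (ha _ hd)
  · rintro w ⟨i, k, rfl⟩
    have h : (fun l => monomial d ((Pi.single i (a k) - Pi.single k (a i) : Fin c → A) l)) =
        monomial d (1 : A) • (Pi.single i (C (a k)) - Pi.single k (C (a i)) :
          Fin c → MvPolynomial σ A) := by
      funext l
      simp only [Pi.sub_apply, Pi.smul_apply, smul_eq_mul, map_sub, mul_sub]
      congr 1 <;> (rw [Pi.single_apply, Pi.single_apply]; split_ifs <;>
        simp [mul_comm _ (C _), C_mul_monomial])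
    rw [h]
    exact Submodule.smul_mem _ _ (Submodule.subset_span ⟨i, k, rfl⟩)
  · simp only [Pi.zero_apply, map_zero]
    exact M.zero_mem
  · intro x y _ _ hx hy
    simpa [Pi.add_def] using M.add_mem hx hy
  · intro r x _ hx
    have h : (fun i => monomial d ((r • x) i)) =
        (C r : MvPolynomial σ A) • fun i => monomial d (x i) := by
      funext i
      simp [C_mul_monomial]
    rw [h]
    exact M.smul_mem _ hx

/-- `aⱼ` is regular modulo the linear relations. -/
theorem mem_rel_of_mul_mem (ha : CAlgX.IsH1Regular a)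
    {P : MvPolynomial {i : Fin c // i ≠ j} A} (hP : C (a j) * P ∈ rel a j) : P ∈ rel a j := by
  classical
  obtain ⟨w, hw⟩ := (Ideal.mem_span_range_iff_exists_fun).mp hP
  set v : Fin c → MvPolynomial {i : Fin c // i ≠ j} A :=
    -w + Pi.single j (∑ i, w i * var j i - P) with hv
  have hrel : ∑ i, v i * C (a i) = 0 := by
    simp only [hv, Pi.add_apply, Pi.neg_apply, add_mul, neg_mul, Finset.sum_add_distrib,
      Finset.sum_neg_distrib, Pi.single_apply, ite_mul, zero_mul, Finset.sum_ite_eq',
      Finset.mem_univ, if_true, sub_mul, Finset.sum_mul]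
    simp only [mul_sub, Finset.sum_sub_distrib] at hw
    have h2 : ∑ i, w i * var j i * C (a j) = ∑ i, w i * (C (a j) * var j i) :=
      Finset.sum_congr rfl fun i _ => by ring
    rw [h2]
    linear_combination hw
  let φ : (Fin c → MvPolynomial {i : Fin c // i ≠ j} A) →ₗ[MvPolynomial {i : Fin c // i ≠ j} A]
      MvPolynomial {i : Fin c // i ≠ j} A :=
    ∑ i, (var (A := A) j i) • (LinearMap.proj (R := MvPolynomial {i : Fin c // i ≠ j} A)
      (φ := fun _ : Fin c => MvPolynomial {i : Fin c // i ≠ j} A) i)
  have hφ : ∀ x, φ x = ∑ i, var j i * x i := fun x => by simp [φ, LinearMap.sum_apply]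
  have h1 : Submodule.span _ {w : Fin c → MvPolynomial {i : Fin c // i ≠ j} A |
      ∃ i k : Fin c, w = Pi.single i (C (a k)) - Pi.single k (C (a i))} ≤
        Submodule.comap φ (rel a j) := by
    rw [Submodule.span_le]
    rintro _ ⟨i, k, rfl⟩
    show φ _ ∈ rel a j
    rw [hφ]
    simp only [Pi.sub_apply, mul_sub, Finset.sum_sub_distrib, Pi.single_apply, mul_ite, mul_zero,
      Finset.sum_ite_eq', Finset.mem_univ, if_true]
    rw [show var j i * C (a k) - var j k * C (a i) =
      var j k * (C (a j) * var j i - C (a i)) - var j i * (C (a j) * var j k - C (a k)) by ring]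
    exact sub_mem (Ideal.mul_mem_left _ _ (rel_mem a j i)) (Ideal.mul_mem_left _ _ (rel_mem a j k))
  have h2 : φ v ∈ rel a j := h1 (mem_span_trivial a ha v hrel)
  have h3 : φ v = -P := by
    rw [hφ]
    simp only [hv, Pi.add_apply, Pi.neg_apply, mul_add, mul_neg, Finset.sum_add_distrib,
      Finset.sum_neg_distrib, Pi.single_apply, mul_ite, mul_zero, Finset.sum_ite_eq',
      Finset.mem_univ, if_true, var_self, one_mul]
    rw [Finset.sum_congr rfl fun i _ => mul_comm (var (A := A) j i) (w i)]
    ring
  simpa [h3] using h2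

theorem mk_gen_mem_nonZeroDivisors (ha : CAlgX.IsH1Regular a) :
    Ideal.Quotient.mk (rel a j) (C (a j)) ∈
      nonZeroDivisors (MvPolynomial {i : Fin c // i ≠ j} A ⧸ rel a j) := by
  rw [mem_nonZeroDivisors_iff_right]
  intro y hy
  obtain ⟨P, rfl⟩ := Ideal.Quotient.mk_surjective y
  rw [← map_mul, Ideal.Quotient.eq_zero_iff_mem] at hy
  exact Ideal.Quotient.eq_zero_iff_mem.mpr (mem_rel_of_mul_mem a j ha (by rwa [mul_comm] at hy))

theorem evalChart_var (i : Fin c) :
    algebraMap A _ (a j) * H26.BlowChart.evalChart a j (var j i) =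
      algebraMap A (BlowUp.affineAlgebra A (Ideal.span (Set.range a)) (a j)) (a i) := by
  by_cases h : i = j
  · subst h
    rw [var_self, map_one, mul_one]
  · rw [var, dif_neg h, H26.BlowChart.evalChart, aeval_X, mul_comm]
    exact BlowUpExists.afrac_spec _

/-- The chart is the polynomial ring modulo the linear relations. -/
theorem ker_evalChart (ha : CAlgX.IsH1Regular a) :
    RingHom.ker (H26.BlowChart.evalChart a j).toRingHom = rel a j := by
  refine le_antisymm (fun f hf => ?_) ?_
  · let B := MvPolynomial {i : Fin c // i ≠ j} A ⧸ rel a j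
    let t : B := Ideal.Quotient.mk _ (C (a j))
    have ht : IsUnit (algebraMap B (Localization.Away t) t) := IsLocalization.Away.algebraMap_isUnit t
    let ρ : Localization.Away (a j) →+* Localization.Away t :=
      IsLocalization.Away.lift (a j)
        (g := (algebraMap B (Localization.Away t)).comp ((Ideal.Quotient.mk (rel a j)).comp C)) ht
    have hρ : ∀ x : A, ρ (algebraMap A _ x) =
        algebraMap B (Localization.Away t) (Ideal.Quotient.mk _ (C x)) :=
      fun x => IsLocalization.Away.lift_eq (a j) ht x
    have hcomp : ρ.comp ((BlowUp.affineAlgebra A (Ideal.span (Set.range a)) (a j)).val.toRingHom.comp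
        (H26.BlowChart.evalChart a j).toRingHom) =
        (algebraMap B (Localization.Away t)).comp (Ideal.Quotient.mk (rel a j)) := by
      refine MvPolynomial.ringHom_ext (fun x => ?_) fun i => ?_
      · show ρ _ = _
        rw [show ((BlowUp.affineAlgebra A (Ideal.span (Set.range a)) (a j)).val.toRingHom.comp
          (H26.BlowChart.evalChart a j).toRingHom) (C x) = algebraMap A (Localization.Away (a j)) x by
            simp, hρ]
        rfl
      · refine ht.mul_left_cancel ?_
        have h1 : algebraMap A (Localization.Away (a j)) (a j) *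
            (H26.BlowChart.evalChart a j (X i) : Localization.Away (a j)) =
              algebraMap A (Localization.Away (a j)) (a i.1) := by
          have h := congrArg Subtype.val (evalChart_var a j i.1)
          rw [var, dif_neg i.2] at h
          simpa using h
        have h2 := congrArg ρ h1
        rw [map_mul, hρ, hρ] at h2
        refine h2.trans ?_
        show _ = algebraMap B (Localization.Away t) t * algebraMap B (Localization.Away t)
          (Ideal.Quotient.mk (rel a j) (X i))
        rw [← map_mul, ← map_mul]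
        refine congrArg (algebraMap B (Localization.Away t)) (Ideal.Quotient.eq.mpr ?_).symm
        have h := rel_mem a j i.1
        rwa [var, dif_neg i.2] at h
    have h0 : algebraMap B (Localization.Away t) (Ideal.Quotient.mk (rel a j) f) = 0 := by
      rw [← RingHom.comp_apply, ← hcomp, RingHom.comp_apply, RingHom.comp_apply,
        RingHom.mem_ker.mp hf, map_zero, map_zero]
    refine Ideal.Quotient.eq_zero_iff_mem.mp (IsLocalization.injective (Localization.Away t)
      (M := Submonoid.powers t) ?_ (h0.trans (map_zero _).symm))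
    exact Submonoid.powers_le.mpr (mk_gen_mem_nonZeroDivisors a j ha)
  · rw [rel, Ideal.span_le]
    rintro _ ⟨i, rfl⟩
    show H26.BlowChart.evalChart a j (C (a j) * var j i - C (a i)) = 0
    rw [map_sub, map_mul, ← MvPolynomial.algebraMap_eq, AlgHom.commutes, AlgHom.commutes,
      evalChart_var, sub_self]

/-- The exceptional generator stays regular in a base change keeping the sequence `H₁`-regular. -/
theorem gen_mem_nonZeroDivisors (ha : CAlgX.IsH1Regular a) {A₀ B A' Q : CommRingCat.{u}}
    (φ : A₀ ⟶ B) (ψ : A₀ ⟶ A') {κ : B ⟶ Q} {lam : A' ⟶ Q} (h : IsPushout φ ψ κ lam)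
    (ι : A ≃+* A₀) (e : BlowUp.affineAlgebra A (Ideal.span (Set.range a)) (a j) ≃+* B)
    (he : ∀ x, e (algebraMap A _ x) = φ (ι x)) (ha' : CAlgX.IsH1Regular fun i => ψ (ι (a i))) :
    κ (φ (ι (a j))) ∈ nonZeroDivisors Q := by
  classical
  let g : A →+* A' := ψ.hom.comp ι.toRingHom
  let a' : Fin c → A' := fun i => g (a i)
  let Bq : CommRingCat.{u} := CommRingCat.of (MvPolynomial {i : Fin c // i ≠ j} A' ⧸ rel a' j)
  let m : MvPolynomial {i : Fin c // i ≠ j} A →+* Bq :=
    (Ideal.Quotient.mk (rel a' j)).comp (MvPolynomial.map g)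
  have hvar : ∀ i, MvPolynomial.map g (var (A := A) j i) = var (A := A') j i := fun i => by
    unfold var
    split_ifs <;> simp
  have hm : RingHom.ker (H26.BlowChart.evalChart a j).toRingHom ≤ RingHom.ker m := by
    rw [ker_evalChart a j ha, rel, Ideal.span_le]
    rintro _ ⟨i, rfl⟩
    refine Ideal.Quotient.eq_zero_iff_mem.mpr ?_
    rw [map_sub, map_mul, map_C, map_C, hvar]
    exact rel_mem a' j i
  have hsur : Function.Surjective (H26.BlowChart.evalChart a j).toRingHom :=
    H26.BlowChart.evalChart_surjective a j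
  let τ : B ⟶ Bq := CommRingCat.ofHom
    (((H26.BlowChart.evalChart a j).toRingHom.liftOfSurjective hsur ⟨m, hm⟩).comp e.symm.toRingHom)
  have hτ : ∀ f, τ (e (H26.BlowChart.evalChart a j f)) = m f := fun f => by
    show ((H26.BlowChart.evalChart a j).toRingHom.liftOfSurjective hsur ⟨m, hm⟩)
      (e.symm (e (H26.BlowChart.evalChart a j f))) = _
    rw [e.symm_apply_apply]
    exact RingHom.liftOfRightInverse_comp_apply _ _ _ _ _
  let σ : A' ⟶ Bq := CommRingCat.ofHom ((Ideal.Quotient.mk (rel a' j)).comp C)
  have hw : φ ≫ τ = ψ ≫ σ := by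
    refine CommRingCat.hom_ext (RingHom.ext fun x => ?_)
    show τ (φ x) = σ (ψ x)
    have h1 := hτ (C (ι.symm x))
    rw [show H26.BlowChart.evalChart a j (C (ι.symm x)) = algebraMap A _ (ι.symm x) by simp, he,
      ι.apply_symm_apply] at h1
    rw [h1]
    show Ideal.Quotient.mk _ (MvPolynomial.map g (C (ι.symm x))) = Ideal.Quotient.mk _ (C (ψ x))
    rw [map_C]
    simp [g]
  let χ : Q ⟶ Bq := h.desc τ σ hw
  let θ₀ : MvPolynomial {i : Fin c // i ≠ j} A' →+* Q :=
    eval₂Hom lam.hom fun i => κ (e (H26.BlowChart.evalChart a j (X i)))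
  have hgl : ∀ x, lam (g x) = κ (φ (ι x)) := fun x =>
    (ConcreteCategory.congr_hom h.w (ι x)).symm
  have hθm : θ₀.comp (MvPolynomial.map g) = κ.hom.comp (e.toRingHom.comp
      (H26.BlowChart.evalChart a j).toRingHom) := by
    refine MvPolynomial.ringHom_ext (fun x => ?_) fun i => ?_
    · simp only [RingHom.comp_apply, map_C, θ₀, eval₂Hom_C]
      rw [show (H26.BlowChart.evalChart a j).toRingHom (C x) = algebraMap A _ x by simp]
      exact (hgl x).trans (congrArg κ (he x).symm)
    · simp only [RingHom.comp_apply, map_X, θ₀, eval₂Hom_X']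
      rfl
  have hθrel : rel a' j ≤ RingHom.ker θ₀ := by
    rw [rel, Ideal.span_le]
    rintro _ ⟨i, rfl⟩
    show θ₀ (C (a' j) * var j i - C (a' i)) = 0
    rw [← hvar, ← map_C, ← map_C, ← map_mul, ← map_sub, ← RingHom.comp_apply, hθm]
    simp only [RingHom.comp_apply]
    rw [RingHom.mem_ker.mp ((ker_evalChart a j ha).ge (rel_mem a j i)), map_zero, map_zero]
  let θ : Bq ⟶ Q := CommRingCat.ofHom (Ideal.Quotient.lift (rel a' j) θ₀ hθrel)
  have hinv : χ ≫ θ = 𝟙 Q := by
    refine h.hom_ext ?_ ?_
    · rw [← Category.assoc, IsPushout.inl_desc, Category.comp_id]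
      refine CommRingCat.hom_ext (RingHom.ext fun x => ?_)
      obtain ⟨f, hf⟩ := hsur (e.symm x)
      obtain rfl : e (H26.BlowChart.evalChart a j f) = x := by
        rw [show H26.BlowChart.evalChart a j f = e.symm x from hf, e.apply_symm_apply]
      show θ (τ (e (H26.BlowChart.evalChart a j f))) = κ _
      rw [hτ]
      exact DFunLike.congr_fun hθm f
    · rw [← Category.assoc, IsPushout.inr_desc, Category.comp_id]
      refine CommRingCat.hom_ext (RingHom.ext fun x => ?_)
      show θ₀ (C x) = lam x
      exact eval₂Hom_C _ _ x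
  rw [mem_nonZeroDivisors_iff_right]
  intro y hy
  have h1 := congrArg χ hy
  rw [map_mul, map_zero, ← hgl] at h1
  have h2 : χ (lam (g (a j))) = Ideal.Quotient.mk (rel a' j) (C (a' j)) :=
    ConcreteCategory.congr_hom (h.inr_desc τ σ hw) (g (a j))
  rw [h2] at h1
  have h3 : χ y = 0 := (mul_right_mem_nonZeroDivisors_eq_zero_iff
    (mk_gen_mem_nonZeroDivisors a' j ha')).mp h1
  calc y = θ (χ y) := (ConcreteCategory.congr_hom hinv y).symm
    _ = 0 := by rw [h3, map_zero]

end Groth.Agent.Lib.KoszulBlow85
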